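import Groth.Agent.AgPol.K117.Nodes
import Groth.Agent.AbSch.K451.Prod
import Groth.Agent.Fga.DVRLine
import Groth.Agent.S0613

/-!
# Isomorphisms of core families extend over a discrete valuation ring

`K302.Sep.main : K117.Ag.Node.SepDVR g d n`.
-/

set_option autoImplicit false
universe u

open CategoryTheory Limits MonoidalCategory CartesianMonoidalCategory AlgebraicGeometry
open scoped MonObj

namespace K302.Sep

open Groth.Agent.Grpsch.PicGrp

section Mon

universe v₁ v₂ u₁ u₂

variable {C : Type u₁} [Category.{v₁} C] [CartesianMonoidalCategory C] {D : Type u₂} [Category.{v₂} D]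
  [CartesianMonoidalCategory D] (F : C ⥤ D) [F.Monoidal] {G H : C} [MonObj G] [MonObj H] (e : G ⟶ H)

/-- a morphism whose image is a homomorphism is a homomorphism, if enough equalities are reflected. -/
theorem isMonHom_of_map (h : letI : MonObj (F.obj G) := F.monObjObj G; letI : MonObj (F.obj H) := F.monObjObj H
      IsMonHom (F.map e))
    (h1 : ∀ a b : 𝟙_ C ⟶ H, F.map a = F.map b → a = b) (h2 : ∀ a b : G ⊗ G ⟶ H, F.map a = F.map b → a = b) :
    IsMonHom e := by
  let : MonObj (F.obj G) := F.monObjObj G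
  let : MonObj (F.obj H) := F.monObjObj H
  constructor
  · apply h1
    have h3 := h.one_hom
    rw [Functor.obj.η_def, Functor.obj.η_def, Category.assoc, ← F.map_comp] at h3
    exact (cancel_epi _).1 h3
  · apply h2
    have h3 := h.mul_hom
    rw [Functor.obj.μ_def, Functor.obj.μ_def, Category.assoc, ← F.map_comp, Functor.LaxMonoidal.μ_natural_assoc,
      ← F.map_comp] at h3
    exact (cancel_epi _).1 h3

end Mon

variable {R : Type u} [CommRing R] [IsDomain R] [IsDiscreteValuationRing R]

variable (R) in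
/-- the generic point -/
noncomputable abbrev gen : Spec (CommRingCat.of (FractionRing R)) ⟶ Spec (CommRingCat.of R) :=
  Spec.map (CommRingCat.ofHom (algebraMap R (FractionRing R)))

variable {Z X Y : Over (Spec (CommRingCat.of R))}

/-- morphisms to an abelian scheme that agree on the generic fibre are equal. -/
theorem eq_of_gen [GrpObj Y] [Smooth Z.hom] [Smooth Y.hom] [IsProper Y.hom] [GeometricallyIrreducible Y.hom]
    (a b : Z ⟶ Y) (h : (Over.pullback (gen R)).map a = (Over.pullback (gen R)).map b) : a = b := by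
  let : GrpObj (Over.mk Y.hom) := inferInstanceAs (GrpObj Y)
  have h1 : pullback.fst Z.hom (gen R) ≫ a.left = ((Over.pullback (gen R)).map a).left ≫ pullback.fst Y.hom (gen R) :=
    (pullback.lift_fst _ _ _).symm
  have h2 : pullback.fst Z.hom (gen R) ≫ b.left = ((Over.pullback (gen R)).map b).left ≫ pullback.fst Y.hom (gen R) :=
    (pullback.lift_fst _ _ _).symm
  obtain ⟨u, -, hu⟩ := Groth.Agent.S0613.result Y.hom Z.hom ((Over.pullback (gen R)).map a).left
    (Over.w ((Over.pullback (gen R)).map a))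
  ext1
  exact (hu a.left ⟨Over.w a, h1⟩).trans (hu b.left ⟨Over.w b, h2.trans (by rw [h])⟩).symm

/-- morphisms of the generic fibres extend. -/
theorem exists_ext [GrpObj Y] [Smooth Z.hom] [Smooth Y.hom] [IsProper Y.hom] [GeometricallyIrreducible Y.hom]
    (a : (Over.pullback (gen R)).obj Z ⟶ (Over.pullback (gen R)).obj Y) :
    ∃ b : Z ⟶ Y, (Over.pullback (gen R)).map b = a := by
  let : GrpObj (Over.mk Y.hom) := inferInstanceAs (GrpObj Y)
  obtain ⟨u, ⟨h1, h2⟩, -⟩ := Groth.Agent.S0613.result Y.hom Z.hom a.left (Over.w a)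
  refine ⟨Over.homMk u h1, ?_⟩
  ext1
  apply pullback.hom_ext
  · exact (pullback.lift_fst _ _ _).trans h2
  · exact (pullback.lift_snd _ _ _).trans (Over.w a).symm

/-- base change of a section -/
noncomputable abbrev sec {T T' : Scheme.{u}} (k : T' ⟶ T) {W : Over T} (s : 𝟙_ (Over T) ⟶ W) :
    𝟙_ (Over T') ⟶ Red.bc k W :=
  Over.homMk (pullback.lift (k ≫ s.left) (𝟙 T') (by simp [Category.assoc, Over.w s])) (pullback.lift_snd _ _ _)

/-- base change of a section -/
theorem map_sec {T T' : Scheme.{u}} (k : T' ⟶ T) {W : Over T} (s : 𝟙_ (Over T) ⟶ W) :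
    (Over.pullback k).map s = toUnit _ ≫ sec k s := by
  have h0 : (toUnit ((Over.pullback k).obj (𝟙_ (Over T)))).left = pullback.snd (𝟙_ (Over T)).hom k := rfl
  have h1 : pullback.fst (𝟙_ (Over T)).hom k = pullback.snd (𝟙_ (Over T)).hom k ≫ k := by
    have := pullback.condition (f := (𝟙_ (Over T)).hom) (g := k)
    exact (Category.comp_id _).symm.trans this
  ext1
  apply pullback.hom_ext
  · refine (pullback.lift_fst _ _ _).trans ?_
    rw [Over.comp_left, Category.assoc]
    refine Eq.trans ?_ (congrArg (fun f => pullback.snd (𝟙_ (Over T)).hom k ≫ f) (pullback.lift_fst _ _ _).symm)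
    rw [h1, Category.assoc]
  · refine (pullback.lift_snd _ _ _).trans ?_
    rw [Over.comp_left, Category.assoc]
    refine Eq.trans ?_ (congrArg (fun f => pullback.snd (𝟙_ (Over T)).hom k ≫ f) (pullback.lift_snd _ _ _).symm)
    exact (Category.comp_id _).symm

/-- restriction to the generic fibre is injective on classes. -/
theorem pull_injective [Smooth X.hom] [GeometricallyIntegral X.hom] :
    Function.Injective (pull (pullback.fst X.hom (gen R))) := by
  intro c d hcd
  obtain ⟨L, hL, rfl⟩ := exists_mk c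
  obtain ⟨M, hM, rfl⟩ := exists_mk d
  rw [pull_mk, pull_mk, mk_eq_iff] at hcd
  rw [mk_eq_iff]
  have hint : IsIntegral (pullback X.hom (Spec.map (CommRingCat.ofHom
      (algebraMap R (IsLocalRing.ResidueField R))))) := by
    have : Subsingleton (Spec (CommRingCat.of (IsLocalRing.ResidueField R))) :=
      inferInstanceAs (Subsingleton (PrimeSpectrum (IsLocalRing.ResidueField R)))
    exact GeometricallyIntegral.isIntegral_of_subsingleton (pullback.snd X.hom (Spec.map (CommRingCat.ofHom
      (algebraMap R (IsLocalRing.ResidueField R)))))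
  exact Groth.Agent.Fga.DVRLine.nonempty_iso_of_generic_of_integral X.hom (κ := IsLocalRing.ResidueField R)
    IsLocalRing.residue_surjective (IsPullback.of_hasPullback _ _) (IsPullback.of_hasPullback X.hom (gen R)) hL hM hcd

theorem aux {X Y : Over (Spec (CommRingCat.of R))} [GrpObj X] [GrpObj Y] {g : ℕ} (hX : AgPol.IsAbSch X g)
    (hY : AgPol.IsAbSch Y g) (c : Pic X.left) (c' : Pic Y.left) {κ : Type*} (σ : κ → (𝟙_ (Over (Spec (CommRingCat.of R))) ⟶ X))
    (τ : κ → (𝟙_ (Over (Spec (CommRingCat.of R))) ⟶ Y)) (eK : Red.bc (gen R) X ≅ Red.bc (gen R) Y)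
    (hmon : IsMonHom eK.hom)
    (hcl : pull eK.hom.left (pull (pullback.fst Y.hom (gen R)) c') = pull (pullback.fst X.hom (gen R)) c)
    (hσ : ∀ i, sec (gen R) (σ i) ≫ eK.hom = sec (gen R) (τ i)) :
    ∃ e : X ≅ Y, IsMonHom e.hom ∧ pull e.hom.left c' = c ∧ ∀ i, σ i ≫ e.hom = τ i := by
  have := hX.smooth
  have := hX.proper
  have := hY.smooth
  have := hY.proper
  have := K451.Prod.geometricallyIntegral_of_isAbSch hX
  have := K451.Prod.geometricallyIntegral_of_isAbSch hY
  obtain ⟨e, he⟩ := exists_ext (Z := X) (Y := Y) eK.hom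
  obtain ⟨e', he'⟩ := exists_ext (Z := Y) (Y := X) eK.inv
  have h1 : e ≫ e' = 𝟙 _ := eq_of_gen _ _ (by
    rw [Functor.map_comp, he, he', CategoryTheory.Functor.map_id]; exact eK.hom_inv_id)
  have h2 : e' ≫ e = 𝟙 _ := eq_of_gen _ _ (by
    rw [Functor.map_comp, he, he', CategoryTheory.Functor.map_id]; exact eK.inv_hom_id)
  have hu : Smooth (𝟙_ (Over (Spec (CommRingCat.of R)))).hom := inferInstanceAs (Smooth (𝟙 _))
  have hp : Smooth (X ⊗ X).hom := by
    rw [Over.tensorObj_hom]
    infer_instance
  refine ⟨⟨e, e', h1, h2⟩, isMonHom_of_map (Over.pullback (gen R)) e ?_ (fun a b => eq_of_gen a b)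
    (fun a b => eq_of_gen a b), ?_, fun i => eq_of_gen _ _ ?_⟩
  · rw [he]
    exact hmon
  · apply pull_injective
    rw [← pull_comp]
    have h3 : pullback.fst X.hom (gen R) ≫ e.left = eK.hom.left ≫ pullback.fst Y.hom (gen R) := by
      rw [← he]
      exact (pullback.lift_fst _ _ _).symm
    exact (congrArg (fun f => pull f c') h3).trans ((pull_comp _ _ _).trans hcl)
  · rw [Functor.map_comp, he, map_sec, map_sec, Category.assoc]
    exact congrArg (fun f => toUnit _ ≫ f) (hσ i)

/-- **SEP** -/
theorem main (g d n : ℕ) : K117.Ag.Node.SepDVR.{u} g d n := by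
  intro S R _ _ _ t x y hx hy h
  obtain ⟨eK, hmon, hcl, hσ⟩ := h
  let : GrpObj (show Over (Spec (CommRingCat.of R)) from x.X) := x.grp
  let : GrpObj (show Over (Spec (CommRingCat.of R)) from y.X) := y.grp
  exact aux (X := x.X) (Y := y.X) hx.ab hy.ab x.c y.c x.σ y.σ eK hmon hcl hσ

end K302.Sep
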