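import Groth.Agent.AgPol.K652.QPNodes

/-!
# Closed subschemes of projective space cut out by forms: base change and linear automorphisms

* `cutOut_of_isPullback`, `cutOut_bc`: `K652.QPNodes.CutOut` is stable under base change;
* `exists_lin`: the automorphism of `P^m_T` defined by an invertible matrix.
-/

set_option autoImplicit false
universe u

open CategoryTheory Limits AlgebraicGeometry TopologicalSpace

namespace K302.CutBC

open Groth.Agent.Grpsch.PicGrp Groth.Agent.Fdesc.LocGen Groth.Agent.Dix.ProjProper K390.PnSec K652.QPNodes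

variable {T T' X X' Y : Scheme.{u}}

theorem pullTop_zero (f : Y ⟶ X) (M : X.Modules) : pullTop f (0 : Γ(M, ⊤)) = 0 :=
  (pullTopHom f M).map_zero

theorem pullTop_congr_zero {f g : Y ⟶ X} (h : f = g) {M : X.Modules} {s : Γ(M, ⊤)} (hs : pullTop f s = 0) :
    pullTop g s = 0 := by
  subst h
  exact hs

theorem pullTop_comp_zero {Z : Scheme.{u}} {f : Y ⟶ X} {g : X ⟶ Z} {M : Z.Modules} {s : Γ(M, ⊤)} :
    pullTop (f ≫ g) s = 0 ↔ pullTop f (pullTop g s) = 0 := by
  have h1 : ((Scheme.Modules.pullbackComp f g).inv.app M).app ⊤ (pullTop (f ≫ g) s) = pullTop f (pullTop g s) :=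
    pullSec_comp f g s
  have h2 : ((Scheme.Modules.pullbackComp f g).hom.app M).app ⊤ (pullTop f (pullTop g s)) = pullTop (f ≫ g) s :=
    pullSec_comp' f g (U := ⊤) s
  constructor
  · intro h
    rw [← h1, h, map_zero]
  · intro h
    rw [← h2, h, map_zero]

theorem pullTop_app (f : Y ⟶ X) {M M' : X.Modules} (e : M ⟶ M') (s : Γ(M, ⊤)) :
    pullTop f (e.app ⊤ s) = ((Scheme.Modules.pullback f).map e).app ⊤ (pullTop f s) :=
  (pullback_map_pullSec f e (U := ⊤) s).symm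

/-- A scheme cut out by forms remains so after a pull-back preserving the class of `O(1)`. -/
theorem cutOut_of_isPullback {m D : ℕ} {i : X ⟶ CohB1.ProjSpaceOver m T} (h : CutOut D i)
    {i' : X' ⟶ CohB1.ProjSpaceOver m T'} {a : X' ⟶ X} {pm : CohB1.ProjSpaceOver m T' ⟶ CohB1.ProjSpaceOver m T}
    (sq : IsPullback i' a pm i) (hpm : pull pm (o1T m T) = o1T m T') : CutOut D i' := by
  intro N' hN' hc z hz
  obtain ⟨N, hN, hNc⟩ := exists_mk (o1T m T ^ D)
  have h1 : mk ((Scheme.Modules.pullback pm).obj N) (isInvertible_pullback pm hN) = mk N' hN' := by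
    rw [hc, ← pull_mk pm hN, ← hNc, map_pow, hpm]
  obtain ⟨e⟩ := (mk_eq_iff _ _).1 h1
  have h2 : pm z ∉ Set.range i := by
    rintro ⟨x, hx⟩
    apply hz
    obtain ⟨w, hw, -⟩ := AlgebraicGeometry.Scheme.exists_preimage_of_isPullback sq z x hx.symm
    exact ⟨w, hw⟩
  obtain ⟨s, hs0, hs⟩ := h N hN hNc.symm (pm z) h2
  refine ⟨e.hom.app ⊤ (pullTop pm s), ?_, ?_⟩
  · rw [pullTop_app]
    have h3 : pullTop i' (pullTop pm s) = 0 := by
      rw [← pullTop_comp_zero]
      apply pullTop_congr_zero sq.w.symm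
      rw [pullTop_comp_zero, hs0, pullTop_zero]
    rw [h3, map_zero]
  · rw [genLocus_app, genLocus_pullTop pm hN]
    exact hs

/-- **(CUTBC)** -/
theorem cutOut_bc {m D : ℕ} {i : X ⟶ CohB1.ProjSpaceOver m T} (h : CutOut D i)
    (i' : X' ⟶ CohB1.ProjSpaceOver m T') (a : X' ⟶ X) (pm : CohB1.ProjSpaceOver m T' ⟶ CohB1.ProjSpaceOver m T)
    (sq : IsPullback i' a pm i) (h1 : pm ≫ toZ m T = toZ m T') : CutOut D i' := by
  refine cutOut_of_isPullback h sq ?_
  rw [o1T, o1T, ← pull_comp, h1]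

/-! ### Linear automorphisms -/

section lin

variable {m : ℕ}

/-- The sections `Σ_k g_{kl} e_k`. -/
noncomputable def lin (q : X ⟶ T) {L : X.Modules} (g : Matrix (Fin (m + 1)) (Fin (m + 1)) Γ(T, ⊤))
    (e : Fin (m + 1) → Γ(L, ⊤)) (l : Fin (m + 1)) : Γ(L, ⊤) := ∑ k, (q.appTop (g k l)) • e k

theorem lin_lin (q : X ⟶ T) {L : X.Modules} (g g' : Matrix (Fin (m + 1)) (Fin (m + 1)) Γ(T, ⊤))
    (e : Fin (m + 1) → Γ(L, ⊤)) : lin q g' (lin q g e) = lin q (g * g') e := by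
  funext j
  simp only [lin, Finset.smul_sum, smul_smul]
  rw [Finset.sum_comm]
  refine Finset.sum_congr rfl fun k _ => ?_
  rw [← Finset.sum_smul, Matrix.mul_apply, map_sum]
  congr 1
  refine Finset.sum_congr rfl fun l _ => ?_
  rw [map_mul, mul_comm]

theorem lin_one (q : X ⟶ T) {L : X.Modules} (e : Fin (m + 1) → Γ(L, ⊤)) : lin q 1 e = e := by
  funext j
  rw [lin, Finset.sum_eq_single j]
  · rw [Matrix.one_apply_eq, map_one, one_smul]
  · intro k _ hk
    rw [Matrix.one_apply_ne hk, map_zero, zero_smul]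
  · intro h
    exact absurd (Finset.mem_univ _) h

theorem pullTop_lin (f : Y ⟶ X) (q : X ⟶ T) {L : X.Modules} (g : Matrix (Fin (m + 1)) (Fin (m + 1)) Γ(T, ⊤))
    (e : Fin (m + 1) → Γ(L, ⊤)) (l : Fin (m + 1)) :
    pullTop f (lin q g e l) = lin (f ≫ q) g (fun k => pullTop f (e k)) l := by
  rw [lin, pullTop_sum_smul, lin]
  refine Finset.sum_congr rfl fun k _ => ?_
  rw [Scheme.Hom.comp_appTop]
  rfl

theorem app_lin (q : X ⟶ T) {L L' : X.Modules} (τ : L ⟶ L') (g : Matrix (Fin (m + 1)) (Fin (m + 1)) Γ(T, ⊤))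
    (e : Fin (m + 1) → Γ(L, ⊤)) (l : Fin (m + 1)) :
    τ.app ⊤ (lin q g e l) = lin q g (fun k => τ.app ⊤ (e k)) l := app_sum_smul τ _ _

theorem genLocus_sum_le {L : X.Modules} (hL : PicF.IsInvertible L) {κ : Type*} [Fintype κ] (a : κ → Γ(X, ⊤))
    (e : κ → Γ(L, ⊤)) : CohB1.genLocus L (homOf (∑ k, a k • e k)) ≤ ⨆ k, CohB1.genLocus L (homOf (e k)) := by
  intro x hx
  obtain ⟨U, t, hxU, ht⟩ := (isInvertible_iff L).mp hL x
  choose b hb using fun k => ht.exists_eq (res L le_top (e k))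
  have h1 : res L (le_top : U ≤ ⊤) (∑ k, a k • e k) = (∑ k, ores (le_top : U ≤ ⊤) (a k) * b k) • t := by
    rw [map_sum, Finset.sum_smul]
    refine Finset.sum_congr rfl fun k _ => ?_
    rw [res_smul, hb k, smul_smul]
  have h2 := genLocus_inf_eq (homOf (∑ k, a k • e k)) ht ((sec_homOf _ _).trans h1)
  have h3 : x ∈ X.basicOpen (∑ k, ores (le_top : U ≤ ⊤) (a k) * b k) := by
    rw [← h2]
    exact ⟨hx, hxU⟩
  rw [Scheme.mem_basicOpen _ _ _ hxU, map_sum] at h3
  obtain ⟨k, -, hk⟩ : ∃ k ∈ Finset.univ, IsUnit (X.presheaf.germ U x hxU (ores (le_top : U ≤ ⊤) (a k) * b k)) := by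
    by_contra hcon
    push Not at hcon
    exact (IsLocalRing.mem_maximalIdeal _).1 (Ideal.sum_mem _ fun k hk => (IsLocalRing.mem_maximalIdeal _).2 (hcon k hk)) h3
  refine Opens.mem_iSup.2 ⟨k, ?_⟩
  have h4 := genLocus_inf_eq (homOf (e k)) ht ((sec_homOf _ _).trans (hb k))
  have h5 : x ∈ X.basicOpen (b k) := by
    rw [Scheme.mem_basicOpen _ _ _ hxU]
    rw [map_mul] at hk
    exact isUnit_of_mul_isUnit_right hk
  rw [← h4] at h5
  exact h5.1

theorem iSup_genLocus_lin (q : X ⟶ T) {L : X.Modules} (hL : PicF.IsInvertible L)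
    {g g' : Matrix (Fin (m + 1)) (Fin (m + 1)) Γ(T, ⊤)} (h : g * g' = 1) (e : Fin (m + 1) → Γ(L, ⊤))
    (he : ⨆ k, CohB1.genLocus L (homOf (e k)) = ⊤) : ⨆ k, CohB1.genLocus L (homOf (lin q g e k)) = ⊤ := by
  rw [eq_top_iff, ← he]
  refine iSup_le fun k => ?_
  have h1 : e k = lin q g' (lin q g e) k := by rw [lin_lin, h, lin_one]
  rw [h1]
  exact genLocus_sum_le hL _ _

/-- The linear map of projective space attached to a morphism given by the sections `lin g crd`. -/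
theorem exists_linHom (T : Scheme.{u}) {g g' : Matrix (Fin (m + 1)) (Fin (m + 1)) Γ(T, ⊤)} (h : g * g' = 1) :
    ∃ G : CohB1.ProjSpaceOver m T ⟶ CohB1.ProjSpaceOver m T,
      G ≫ CohB1.ProjSpaceOver.toBase m T = CohB1.ProjSpaceOver.toBase m T ∧
      GivenBy (G ≫ toZ m T) ((Scheme.Modules.pullback (toZ m T)).obj (O1 m Z.{u}))
        (lin (CohB1.ProjSpaceOver.toBase m T) g (crd m T)) ∧
      ∀ {X : Scheme.{u}} (q : X ⟶ T) (L : X.Modules) (e : Fin (m + 1) → Γ(L, ⊤))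
        (r r'' : X ⟶ CohB1.ProjSpace m Z.{u}), GivenBy r L e → GivenBy r'' L (lin q g e) →
        liftP r q ≫ G = liftP r'' q := by
  have hcrd : GivenBy (toZ m T) ((Scheme.Modules.pullback (toZ m T)).obj (O1 m Z.{u})) (crd m T) := GivenBy.refl _
  obtain ⟨r, hr⟩ := exists_givenBy' (lin (CohB1.ProjSpaceOver.toBase m T) g (crd m T))
    (iSup_genLocus_lin _ (isInvertible_pullback _ (isInvertible_O1 m Z.{u})) h _ hcrd.iSup_genLocus)
  refine ⟨liftP r (CohB1.ProjSpaceOver.toBase m T), liftP_toBase _ _, ?_, ?_⟩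
  · rw [liftP_toZ]
    exact hr
  · intro X q L e r₁ r₂ h₁ h₂
    refine hom_ext_over ?_ ?_
    · rw [Category.assoc, liftP_toZ, liftP_toZ]
      refine GivenBy.unique' ?_ h₂
      have h3 := hcrd.comp (liftP r₁ q)
      rw [liftP_toZ] at h3
      obtain ⟨τ, hτ⟩ := h3.exists_iso h₁
      have h4 := (hr.comp (liftP r₁ q)).of_iso τ
      have h5 : (fun i => τ.hom.app ⊤ (pullTop (liftP r₁ q)
          (lin (CohB1.ProjSpaceOver.toBase m T) g (crd m T) i))) = lin q g e := by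
        funext i
        rw [pullTop_lin, app_lin, liftP_toBase]
        congr 1
        funext k
        exact hτ k
      rw [h5] at h4
      exact h4
    · rw [Category.assoc, liftP_toBase, liftP_toBase, liftP_toBase]

/-- **(LIN)** The automorphism of `P^m_T` defined by an invertible matrix. -/
theorem exists_lin (T : Scheme.{u}) (g g' : Matrix (Fin (m + 1)) (Fin (m + 1)) Γ(T, ⊤)) (h : g * g' = 1)
    (h' : g' * g = 1) :
    ∃ G : CohB1.ProjSpaceOver m T ≅ CohB1.ProjSpaceOver m T,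
      G.hom ≫ CohB1.ProjSpaceOver.toBase m T = CohB1.ProjSpaceOver.toBase m T ∧
      pull G.hom (o1T m T) = o1T m T ∧
      (∀ (X : Scheme.{u}) (q : X ⟶ T) (L : X.Modules) (e : Fin (m + 1) → Γ(L, ⊤))
        (r r'' : X ⟶ CohB1.ProjSpace m Z.{u}), GivenBy r L e →
        GivenBy r'' L (fun l => ∑ k, (q.appTop (g k l)) • e k) → liftP r q ≫ G.hom = liftP r'' q) ∧
      ∀ (X : Scheme.{u}) (i : X ⟶ CohB1.ProjSpaceOver m T) (D : ℕ), CutOut D i → CutOut D (i ≫ G.hom) := by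
  have hcrd : GivenBy (toZ m T) ((Scheme.Modules.pullback (toZ m T)).obj (O1 m Z.{u})) (crd m T) := GivenBy.refl _
  have hid : liftP (toZ m T) (CohB1.ProjSpaceOver.toBase m T) = 𝟙 _ := by
    refine hom_ext_over ?_ ?_
    · rw [liftP_toZ, Category.id_comp]
    · rw [liftP_toBase, Category.id_comp]
  have key : ∀ (g g' : Matrix (Fin (m + 1)) (Fin (m + 1)) Γ(T, ⊤)), g * g' = 1 →
      ∀ G G' : CohB1.ProjSpaceOver m T ⟶ CohB1.ProjSpaceOver m T,
      G ≫ CohB1.ProjSpaceOver.toBase m T = CohB1.ProjSpaceOver.toBase m T →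
      GivenBy (G ≫ toZ m T) ((Scheme.Modules.pullback (toZ m T)).obj (O1 m Z.{u}))
        (lin (CohB1.ProjSpaceOver.toBase m T) g (crd m T)) →
      (∀ {X : Scheme.{u}} (q : X ⟶ T) (L : X.Modules) (e : Fin (m + 1) → Γ(L, ⊤))
        (r r'' : X ⟶ CohB1.ProjSpace m Z.{u}), GivenBy r L e → GivenBy r'' L (lin q g' e) →
        liftP r q ≫ G' = liftP r'' q) → G ≫ G' = 𝟙 _ := by
    intro g g' h G G' hG hGz hG'
    have h1 := hG' (CohB1.ProjSpaceOver.toBase m T) _ _ (G ≫ toZ m T) (toZ m T) hGz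
      (by rw [lin_lin, h, lin_one]; exact hcrd)
    rw [hid] at h1
    rw [← h1]
    congr 1
    refine hom_ext_over ?_ ?_
    · rw [liftP_toZ]
    · rw [liftP_toBase, hG]
  obtain ⟨G, hG, hGz, hGl⟩ := exists_linHom T h
  obtain ⟨G', hG', hGz', hGl'⟩ := exists_linHom T h'
  obtain ⟨e, rfl⟩ : ∃ e : CohB1.ProjSpaceOver m T ≅ CohB1.ProjSpaceOver m T, e.hom = G :=
    ⟨⟨G, G', key g g' h G G' hG hGz hGl', key g' g h' G' G hG' hGz' hGl⟩, rfl⟩
  have he : pull e.hom (o1T m T) = o1T m T := by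
    obtain ⟨τ, -⟩ := hGz
    rw [o1T, ← pull_comp]
    exact mk_congr τ
  refine ⟨e, hG, he, fun X q L s r r'' h₁ h₂ => hGl q L s r r'' h₁ h₂, fun X i D hi => ?_⟩
  refine cutOut_of_isPullback (a := 𝟙 X) (pm := e.inv) hi ?_ ?_
  · exact IsPullback.of_vert_isIso ⟨by rw [Category.assoc, e.hom_inv_id, Category.comp_id, Category.id_comp]⟩
  · have h1 : pull e.inv (pull e.hom (o1T m T)) = o1T m T := by rw [← pull_comp, e.inv_hom_id, pull_id]
    rwa [he] at h1

end lin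

end K302.CutBC
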