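import Groth.Agent.AgPol.K652.QPChart
import Groth.Agent.AgPol.K652.QPFrame
import Groth.Agent.AgPol.K302.CutBC
import Groth.Agent.Ega3B.ChiFib
import Groth.Agent.Ega2.QCohLocal

/-!
# Embedded charts of a projective family: proof of the node `K652.QPChart.Loc`
-/

set_option autoImplicit false
universe u

open AlgebraicGeometry CategoryTheory CategoryTheory.Limits TopologicalSpace

namespace K302.Loc

open Groth.Agent.Grpsch.PicGrp Groth.Agent.Fdesc.LocGen Groth.Agent.Dix.ProjProper K390.PnSec K652.QPRf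
  K652.QPNodes K652.QPChart

variable {S X : Scheme.{u}}

/-- Very ampleness over an open restricts to a smaller open, in terms of sections of the pull-back. -/
theorem exists_veryAmple (π : X ⟶ S) (L : X.Modules) {V : S.Opens}
    (h : RelAmple.IsRelVeryAmplePn (π ∣_ V) (L.restrict (π ⁻¹ᵁ V).ι)) {U : S.Opens} (hUV : U ≤ V) :
    ∃ (n : ℕ) (r : (π ⁻¹ᵁ U : Scheme.{u}) ⟶ CohB1.ProjSpace n Z.{u})
      (s : Fin (n + 1) → Γ((Scheme.Modules.pullback (π ⁻¹ᵁ U).ι).obj L, ⊤)),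
      GivenBy r ((Scheme.Modules.pullback (π ⁻¹ᵁ U).ι).obj L) s ∧ IsImmersion (liftP r (π ∣_ U)) := by
  obtain ⟨n, r, s, hr, him⟩ := (isRelVeryAmplePn_iff _ _).1 h
  have hj : X.homOfLE (π.preimage_mono hUV) ≫ (π ⁻¹ᵁ V).ι = (π ⁻¹ᵁ U).ι := X.homOfLE_ι _
  have h1 := ((hr.of_iso ((Scheme.Modules.restrictFunctorIsoPullback (π ⁻¹ᵁ V).ι).app L)).comp
    (X.homOfLE (π.preimage_mono hUV))).of_iso ((Scheme.Modules.pullbackComp _ _).app L)
  have key : ∀ f : (π ⁻¹ᵁ U : Scheme.{u}) ⟶ X, X.homOfLE (π.preimage_mono hUV) ≫ (π ⁻¹ᵁ V).ι = f →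
      ∃ s : Fin (n + 1) → Γ((Scheme.Modules.pullback f).obj L, ⊤),
        GivenBy (X.homOfLE (π.preimage_mono hUV) ≫ r) ((Scheme.Modules.pullback f).obj L) s := by
    rintro _ rfl
    exact ⟨_, h1⟩
  obtain ⟨s', hs'⟩ := key _ hj
  refine ⟨n, _, s', hs', ?_⟩
  have h2 : liftP (X.homOfLE (π.preimage_mono hUV) ≫ r) (π ∣_ U) ≫ mapBase n (S.homOfLE hUV) =
      X.homOfLE (π.preimage_mono hUV) ≫ liftP r (π ∣_ V) := by
    refine hom_ext_over ?_ ?_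
    · rw [Category.assoc, mapBase_toZ, liftP_toZ, Category.assoc, liftP_toZ]
    · rw [Category.assoc, mapBase_toBase, ← Category.assoc, liftP_toBase, Category.assoc, liftP_toBase,
        ← cancel_mono V.ι]
      simp
  have h3 : IsImmersion (liftP (X.homOfLE (π.preimage_mono hUV) ≫ r) (π ∣_ U) ≫ mapBase n (S.homOfLE hUV)) := by
    rw [h2]
    infer_instance
  exact IsImmersion.of_comp _ (mapBase n (S.homOfLE hUV))

theorem combs {π : X ⟶ S} {L : X.Modules} {U : S.Opens} (hU : IsAffineOpen U)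
    {k : ℕ} {e : Fin k → Γ(L, π ⁻¹ᵁ U)} (he : Frame π L U e) {n : ℕ}
    (s : Fin n → Γ((Scheme.Modules.pullback (π ⁻¹ᵁ U).ι).obj L, ⊤)) :
    ∃ b : Fin n → Fin k → Γ((U : Scheme.{u}), ⊤), ∀ j,
      s j = ∑ l, ((π ∣_ U).appTop (b j l)) • ps (π ⁻¹ᵁ U).ι (e l) (le_preimage_ι _) := by
  have hsq : IsPullback (π ⁻¹ᵁ U).ι (π ∣_ U) π U.ι := (isPullback_morphismRestrict π U).flip
  have : IsAffine (U : Scheme.{u}) := hU
  choose b hb _ using fun j => he (π ⁻¹ᵁ U).ι (π ∣_ U) U.ι hsq (le_preimage_ι U) (le_preimage_ι _) (s j)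
  exact ⟨b, hb⟩

/-- A frame is not empty. -/
theorem ne_zero (π : X ⟶ S) [Surjective π] (L : X.Modules) (hL : PicF.IsInvertible L) {V : S.Opens}
    (h : RelAmple.IsRelVeryAmplePn (π ∣_ V) (L.restrict (π ⁻¹ᵁ V).ι)) {U : S.Opens} (hUV : U ≤ V)
    (hU : IsAffineOpen U) {x : S} (hx : x ∈ U) {k : ℕ} {e : Fin k → Γ(L, π ⁻¹ᵁ U)} (he : Frame π L U e) : k ≠ 0 := by
  rintro rfl
  obtain ⟨n, r₀, s, hr₀, -⟩ := exists_veryAmple π L h hUV
  obtain ⟨b, hb⟩ := combs hU he s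
  have h1 := K302.CutBC.genLocus_sum_le (isInvertible_pullback (π ⁻¹ᵁ U).ι hL)
    (κ := Fin 0) (fun l => l.elim0) (fun l => l.elim0)
  obtain ⟨y, hy⟩ := Surjective.surj (f := π) x
  have h2 : (⟨y, show π y ∈ U by rw [hy]; exact hx⟩ : (π ⁻¹ᵁ U : Scheme.{u})) ∈
      ⨆ i, CohB1.genLocus _ (homOf (s i)) := by
    rw [hr₀.iSup_genLocus]
    trivial
  obtain ⟨i, hi⟩ := Opens.mem_iSup.1 h2
  have h3 : s i = ∑ l : Fin 0, (l.elim0 : Γ((π ⁻¹ᵁ U : Scheme.{u}), ⊤)) •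
      (l.elim0 : Γ((Scheme.Modules.pullback (π ⁻¹ᵁ U).ι).obj L, ⊤)) := by
    rw [hb i, Finset.univ_eq_empty, Finset.sum_empty, Finset.sum_empty]
  rw [h3] at hi
  have h4 := h1 hi
  rw [iSup_of_empty] at h4
  exact h4

/-- The closed immersion of the family over `U` defined by a frame. -/
theorem exists_embedding (π : X ⟶ S) [IsProper π] (L : X.Modules) (hL : PicF.IsInvertible L) {V : S.Opens}
    (h : RelAmple.IsRelVeryAmplePn (π ∣_ V) (L.restrict (π ⁻¹ᵁ V).ι)) {U : S.Opens} (hUV : U ≤ V)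
    (hU : IsAffineOpen U) {m : ℕ} {e : Fin (m + 1) → Γ(L, π ⁻¹ᵁ U)} (he : Frame π L U e) :
    ∃ r : (π ⁻¹ᵁ U : Scheme.{u}) ⟶ CohB1.ProjSpace m Z.{u},
      GivenBy r ((Scheme.Modules.pullback (π ⁻¹ᵁ U).ι).obj L) (fun l => ps (π ⁻¹ᵁ U).ι (e l) (le_preimage_ι _)) ∧
      IsClosedImmersion (liftP r (π ∣_ U)) := by
  obtain ⟨n, r₀, s, hr₀, him⟩ := exists_veryAmple π L h hUV
  obtain ⟨b, hb⟩ := combs hU he s
  have hM := isInvertible_pullback (π ⁻¹ᵁ U).ι hL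
  have h1 : ⨆ l, CohB1.genLocus _ (homOf (ps (π ⁻¹ᵁ U).ι (e l) (le_preimage_ι _))) = ⊤ := by
    rw [eq_top_iff, ← hr₀.iSup_genLocus]
    refine iSup_le fun j => ?_
    rw [hb j]
    exact K302.CutBC.genLocus_sum_le hM _ _
  obtain ⟨r, hr⟩ := exists_givenBy' (fun l => ps (π ⁻¹ᵁ U).ι (e l) (le_preimage_ι _)) h1
  refine ⟨r, hr, ?_⟩
  have h2 : IsImmersion (liftP r (π ∣_ U)) := isImmersion_liftP_of_span (π ∣_ U) hr hr₀ b hb him
  have h3 : IsProper (liftP r (π ∣_ U) ≫ CohB1.ProjSpaceOver.toBase m U) := by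
    rw [liftP_toBase]
    infer_instance
  have h4 : IsProper (liftP r (π ∣_ U)) := IsProper.of_comp _ (CohB1.ProjSpaceOver.toBase m U)
  exact IsClosedImmersion.of_isPreimmersion _ (Scheme.Hom.isClosedMap _).isClosed_range

theorem exists_lift {T : Scheme.{u}} (t : T ⟶ S) {U : S.Opens} (ht : ⊤ ≤ t ⁻¹ᵁ U) :
    ∃ t' : T ⟶ U, t' ≫ U.ι = t := by
  refine ⟨IsOpenImmersion.lift U.ι t ?_, IsOpenImmersion.lift_fac _ _ _⟩
  rintro _ ⟨x, rfl⟩
  rw [Scheme.Opens.range_ι]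
  exact ht (show x ∈ (⊤ : T.Opens) from trivial)

theorem chart_at {π : X ⟶ S} {L : X.Modules} {U : S.Opens} {m : ℕ} {e : Fin (m + 1) → Γ(L, π ⁻¹ᵁ U)}
    {r : (π ⁻¹ᵁ U : Scheme.{u}) ⟶ CohB1.ProjSpace m Z.{u}}
    (hr : GivenBy r ((Scheme.Modules.pullback (π ⁻¹ᵁ U).ι).obj L)
      (fun l => ps (π ⁻¹ᵁ U).ι (e l) (le_preimage_ι _)))
    (hi : IsClosedImmersion (liftP r (π ∣_ U))) {D : ℕ} (hD : CutOut D (liftP r (π ∣_ U)))
    {T : Scheme.{u}} (t : T ⟶ S) (ht : ⊤ ≤ t ⁻¹ᵁ U) (hf : ⊤ ≤ (pullback.fst π t) ⁻¹ᵁ (π ⁻¹ᵁ U)) :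
    ∃ r' : pullback π t ⟶ CohB1.ProjSpace m Z.{u},
        GivenBy r' ((Scheme.Modules.pullback (pullback.fst π t)).obj L) (fun l => ps (pullback.fst π t) (e l) hf) ∧
          IsClosedImmersion (liftP r' (pullback.snd π t)) ∧ CutOut D (liftP r' (pullback.snd π t)) := by
  obtain ⟨t', ht'⟩ := exists_lift t ht
  obtain ⟨a, ha⟩ := exists_lift (pullback.fst π t) hf
  have hsq : IsPullback (π ⁻¹ᵁ U).ι (π ∣_ U) π U.ι := (isPullback_morphismRestrict π U).flip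
  have sq1 : IsPullback a (pullback.snd π t) (π ∣_ U) t' := by
    refine IsPullback.of_right ?_ ?_ hsq
    · rw [ha, ht']
      exact IsPullback.of_hasPullback π t
    · rw [← cancel_mono U.ι, Category.assoc, Category.assoc, ← hsq.w, ← Category.assoc, ha, ht',
        pullback.condition]
  have key : ∀ (f : pullback π t ⟶ X) (_ : a ≫ (π ⁻¹ᵁ U).ι = f) (hf' : ⊤ ≤ f ⁻¹ᵁ (π ⁻¹ᵁ U)),
      GivenBy (a ≫ r) ((Scheme.Modules.pullback f).obj L) (fun l => ps f (e l) hf') := by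
    rintro _ rfl hf'
    have h1 := (hr.comp a).of_iso ((Scheme.Modules.pullbackComp a (π ⁻¹ᵁ U).ι).app L)
    have h2 : (fun l => ((Scheme.Modules.pullbackComp a (π ⁻¹ᵁ U).ι).app L).hom.app ⊤
        (pullTop a (ps (π ⁻¹ᵁ U).ι (e l) (le_preimage_ι _)))) = fun l => ps (a ≫ (π ⁻¹ᵁ U).ι) (e l) hf' := by
      funext l
      exact ps_comp (π ⁻¹ᵁ U).ι (le_preimage_ι _) a (e l) hf'
    rwa [h2] at h1
  have sq2 : IsPullback (liftP (a ≫ r) (pullback.snd π t)) a (mapBase m t') (liftP r (π ∣_ U)) := by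
    refine IsPullback.of_right (h₁₂ := CohB1.ProjSpaceOver.toBase m T) (v₁₃ := t')
      (h₂₂ := CohB1.ProjSpaceOver.toBase m U) ?_ ?_ (isPullback_mapBase m t').flip
    · rw [liftP_toBase, liftP_toBase]
      exact sq1.flip
    · refine hom_ext_over ?_ ?_
      · rw [Category.assoc, mapBase_toZ, liftP_toZ, Category.assoc, liftP_toZ]
      · rw [Category.assoc, mapBase_toBase, ← Category.assoc, liftP_toBase, Category.assoc, liftP_toBase, sq1.w]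
  refine ⟨a ≫ r, key _ ha hf, ?_, ?_⟩
  · exact MorphismProperty.of_isPullback (P := @IsClosedImmersion) sq2.flip hi
  · exact K302.CutBC.cutOut_bc hD _ a (mapBase m t') sq2 (mapBase_toZ m t')

/-- **LOC** -/
theorem loc (hCut : K652.QPNodes.Cut.{u}) : K652.QPChart.Loc.{u} := by
  intro S X _ π _ _ _ _ L hL h1 hva
  have key : ∀ s : S, ∃ (U : S.Opens) (m : ℕ) (e : Fin (m + 1) → Γ(L, π ⁻¹ᵁ U)) (D₀ : ℕ), s ∈ U ∧
      ∀ (B D : ℕ), m + 1 < B + 1 → D₀ ≤ D → HasChart π L D B U e := by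
    intro s
    obtain ⟨V, hsV, hV, hvV⟩ := hva s
    have hLq : Coh.IsQCoh L := Groth.Agent.Ega2.QCohLocal.isQCoh_of_isInvertible hL
    have hLfp : CohB1.IsFP L := Groth.Agent.Ega3B.ChiFib.isFP_of_isInvertible hL
    have hLfl : FlatMod.IsFlatOver π L := Groth.Agent.Ega3B.ChiFib.isFlatOver_of_isInvertible π hL
    obtain ⟨U₀, k, e₀, hsU₀, hU₀, he₀⟩ := K652.QPFrame.exists_frame π L hLq hLfp hLfl s (h1 s)
    obtain ⟨_, ⟨U, hU, rfl⟩, hsU, hUV⟩ := S.isBasis_affineOpens.exists_subset_of_mem_open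
      (show s ∈ ((V ⊓ U₀ : S.Opens) : Set S) from ⟨hsV, hsU₀⟩) (V ⊓ U₀ : S.Opens).isOpen
    have hUV' : U ≤ V := hUV.trans inf_le_left
    have hUU : U ≤ U₀ := hUV.trans inf_le_right
    have he : Frame π L U (fun l => Groth.Agent.Fdesc.LocGen.res L (π.preimage_mono hUU) (e₀ l)) := he₀.res hUU
    have hk : k ≠ 0 := ne_zero π L hL hvV hUV' hU hsU he
    obtain ⟨m, rfl⟩ := Nat.exists_eq_succ_of_ne_zero hk
    obtain ⟨r, hr, hi⟩ := exists_embedding π L hL hvV hUV' hU he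
    have : IsAffine (U : Scheme.{u}) := hU
    have : IsLocallyNoetherian (U : Scheme.{u}) := isLocallyNoetherian_of_isOpenImmersion (Scheme.Opens.ι U)
    have : IsNoetherian (U : Scheme.{u}) := {}
    obtain ⟨D₀, hD₀⟩ := hCut m (U : Scheme.{u}) (π ⁻¹ᵁ U : Scheme.{u}) (liftP r (π ∣_ U))
    refine ⟨U, m, _, D₀, hsU, fun B D hB hD => ⟨hB, he, fun Ω _ _ t ht hf => ?_⟩⟩
    exact chart_at hr hi (hD₀ D hD) t ht hf
  choose U m e D₀ hsU hch using key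
  obtain ⟨F, hF⟩ := isCompact_univ.elim_finite_subcover (fun s : S => (U s : Set S)) (fun s => (U s).isOpen)
    (fun s _ => Set.mem_iUnion.2 ⟨s, hsU s⟩)
  refine ⟨F.sup m + 1, F.sup D₀, fun D hD s => ?_⟩
  obtain ⟨x, hx, hsx⟩ := Set.mem_iUnion₂.1 (hF (Set.mem_univ s))
  refine ⟨U x, m x, e x, hsx, hch x _ D ?_ ((Finset.le_sup hx).trans hD)⟩
  have := Finset.le_sup (f := m) hx
  omega

end K302.Loc
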